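import Cfsg.Agent.H592.L34.ExistsNine

/-!
# S5917, D2 (P2): a submodule of type 9 inside an invariant subspace (helper592)
-/

set_option autoImplicit false
set_option linter.unusedSectionVars false

namespace Cfsg.Agent.H592.L34

open Matrix Cfsg.Agent.H691.L34 Module

section main

variable {F : Type} [Field F] [Fintype F] {V : Type} [AddCommGroup V] [Module (ZMod 2) V] [Module.Finite (ZMod 2) V]
  {ρ : Representation (ZMod 2) (G3 F) V}

/-- **P2**, from `simp_cases`, `PL`, `st_compl` -/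
theorem exists_nine_in_of (hF : Fintype.card F = 4)
    (hsc : ∀ W : Submodule (ZMod 2) V, Simp ρ W →
      (∀ v ∈ W, ∀ g, ρ g v = v) ∨ IsNine ρ false W ∨ IsNine ρ true W ∨ Is16 ρ W ∨ Is64 ρ W)
    (hPL : ∀ A B : Submodule (ZMod 2) V, Inv ρ A → Inv ρ B → A ≤ B →
      ∃ a b c d : ℕ, Module.finrank (ZMod 2) B = Module.finrank (ZMod 2) A + (a + 16 * b + 9 * c + 64 * d) ∧
      (∀ g : G3 F, orderOf g = 3 → g ∉ Subgroup.center (G3 F) → Module.finrank (ZMod 2) (fx ρ g B) =
        Module.finrank (ZMod 2) (fx ρ g A) + (a + 4 * b + 3 * c + 22 * d)) ∧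
      (∀ g : G3 F, orderOf g = 5 → Module.finrank (ZMod 2) (fx ρ g B) =
        Module.finrank (ZMod 2) (fx ρ g A) + (a + 4 * b + c + 12 * d)) ∧
      ∀ g : G3 F, orderOf g = 7 → Module.finrank (ZMod 2) (fx ρ g B) =
        Module.finrank (ZMod 2) (fx ρ g A) + (a + 4 * b + 10 * d))
    (hst : ∀ W X : Submodule (ZMod 2) V, Simp ρ W → Is64 ρ W → Inv ρ X → W ≤ X →
      ∃ C : Submodule (ZMod 2) V, Inv ρ C ∧ W ⊓ C = ⊥ ∧ W ⊔ C = X)
    {n5 n7 : ℕ} (hn5 : n5 = 68 ∨ n5 = 48) (hn7 : n7 = 80 ∨ n7 = 38)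
    (hd : Dims ρ (⊤ : Submodule (ZMod 2) V) 248 86 n5 n7) (B : LinearMap.BilinForm (ZMod 2) V) (hB : B.Nondegenerate)
    (hs : ∀ x y, B x y = B y x) (hi : ∀ g x y, B (ρ g x) (ρ g y) = B x y) (h0 : fixAll ρ = ⊥)
    {X0 : Submodule (ZMod 2) V} (hX0 : Inv ρ X0) (hX016 : ¬ 16 ∣ finrank (ZMod 2) X0) : ∃ b W, IsNine ρ b W ∧ W ≤ X0 := by
  classical
  by_contra hno
  push Not at hno
  obtain ⟨g3, hg3, hg3c⟩ := exists_three (F := F) hF
  obtain ⟨g5, hg5⟩ := exists_order (F := F) hF (p := 5) (by norm_num) (by norm_num)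
  obtain ⟨g7, hg7⟩ := exists_order (F := F) hF (p := 7) (by norm_num) (by norm_num)
  obtain ⟨d0, d3, d5, d7⟩ := hd
  have d3 := d3 g3 hg3 hg3c
  have d5 := d5 g5 hg5
  have d7 := d7 g7 hg7
  have hrefl : B.IsRefl := fun x y h => by rw [hs]; exact h
  -- the simple submodules have type 16 or 64
  have hsimp : ∀ W : Submodule (ZMod 2) V, Simp ρ W → W ≤ X0 → Is16 ρ W ∨ Is64 ρ W := by
    intro W hW hWX0
    rcases hsc W hW with h | h | h | h | h
    · exfalso
      apply hW.2.1
      rw [eq_bot_iff]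
      intro v hv
      rw [← h0]
      exact fun g => h v hv g
    · exact absurd hWX0 (hno _ _ h)
    · exact absurd hWX0 (hno _ _ h)
    · exact Or.inl h
    · exact Or.inr h
  -- the submodules of type 16 are nondegenerate
  have h16 : ∀ W : Submodule (ZMod 2) V, Simp ρ W → Is16 ρ W → W ⊓ B.orthogonal W = ⊥ := by
    intro W hW hW16
    have ho := inv_orth hi hW.1
    rcases hW.2.2 _ (inv_inf hW.1 ho) inf_le_left with h | h
    · exact h
    · exfalso
      have hle : W ≤ B.orthogonal W := inf_eq_left.1 h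
      obtain ⟨e0, e3, e5, e7⟩ := hW16
      have e3 := e3 g3 hg3 hg3c
      have e5 := e5 g5 hg5
      have e7 := e7 g7 hg7
      obtain ⟨a1, b1, c1, f1, p0, p3, p5, p7⟩ := hPL _ _ hW.1 ho hle
      obtain ⟨a2, b2, c2, f2, q0, q3, q5, q7⟩ := hPL _ _ ho inv_top le_top
      have p3 := p3 g3 hg3 hg3c
      have p5 := p5 g5 hg5
      have p7 := p7 g7 hg7
      have q3 := q3 g3 hg3 hg3c
      have q5 := q5 g5 hg5
      have q7 := q7 g7 hg7
      have hdim := LinearMap.BilinForm.finrank_orthogonal hB W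
      have hV : finrank (ZMod 2) (⊤ : Submodule (ZMod 2) V) = finrank (ZMod 2) V := finrank_top _ _
      have hle' := Submodule.finrank_le W
      rw [e0] at hdim p0 hle'
      rw [e3] at p3
      rw [e5] at p5
      rw [e7] at p7
      rw [d0] at q0 hV
      rw [d3] at q3
      rw [d5] at q5
      rw [d7] at q7
      rw [← hV] at hdim hle'
      exact num hn5 hn7 (by omega) p0 p3 p5 p7 q0 q3 q5 q7
  -- the dimensions are divisible by 16
  have key : ∀ n : ℕ, ∀ X : Submodule (ZMod 2) V, finrank (ZMod 2) X = n → Inv ρ X → X ≤ X0 → 16 ∣ n := by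
    intro n
    induction n using Nat.strong_induction_on with
    | _ n ih =>
      intro X hn hX hXX0
      by_cases hXbot : X = ⊥
      · rw [hXbot, finrank_bot] at hn
        rw [← hn]
        exact dvd_zero _
      · obtain ⟨W, hW, hWX⟩ := exists_simp hX hXbot
        have h1 : 16 ∣ finrank (ZMod 2) W ∧ 0 < finrank (ZMod 2) W ∧
            ∃ C : Submodule (ZMod 2) V, Inv ρ C ∧ W ⊓ C = ⊥ ∧ W ⊔ C = X := by
          rcases hsimp W hW (hWX.trans hXX0) with h | h
          · refine ⟨by rw [h.1], by rw [h.1]; norm_num, X ⊓ B.orthogonal W, inv_inf hX (inv_orth hi hW.1), ?_, ?_⟩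
            · have h5 : W ⊓ (X ⊓ B.orthogonal W) ≤ W ⊓ B.orthogonal W := inf_le_inf_left W inf_le_right
              rw [h16 W hW h] at h5
              exact eq_bot_iff.2 h5
            · have h2 : W ⊔ B.orthogonal W = ⊤ := by
                apply Submodule.eq_top_of_finrank_eq
                have h3 := Submodule.finrank_sup_add_finrank_inf_eq W (B.orthogonal W)
                rw [h16 W hW h, finrank_bot] at h3
                have hdim := LinearMap.BilinForm.finrank_orthogonal hB W
                have hle' := Submodule.finrank_le W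
                omega
              have h5 := sup_inf_assoc_of_le (B.orthogonal W) hWX
              rw [h2, top_inf_eq] at h5
              rw [inf_comm X]
              exact h5.symm
          · exact ⟨by rw [h.1.1]; norm_num, by rw [h.1.1]; norm_num, hst W X hW h hX hWX⟩
        obtain ⟨h2, h3, C, hC, hC1, hC2⟩ := h1
        have h4 := Submodule.finrank_sup_add_finrank_inf_eq W C
        rw [hC1, hC2, finrank_bot, hn, add_zero] at h4
        rw [h4]
        exact dvd_add h2 (ih _ (by omega) C rfl hC ((by rw [← hC2]; exact le_sup_right : C ≤ X).trans hXX0))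
  exact hX016 (key _ X0 rfl hX0 le_rfl)

end main

end Cfsg.Agent.H592.L34
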